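import Mathlib.Algebra.Category.ModuleCat.Presheaf.Sheafification
import Mathlib.Algebra.Category.ModuleCat.Presheaf.Colimits
import Mathlib.Algebra.Category.ModuleCat.Sheaf.Abelian
import Mathlib.Algebra.Category.ModuleCat.Sheaf.Colimits
import Mathlib.Algebra.Category.ModuleCat.Sheaf.Limits
import Mathlib.Algebra.Category.Grp.FilteredColimits
import Mathlib.Algebra.Category.Grp.Colimits
import Mathlib.Algebra.Category.Grp.Limits

/-!
# The forgetful functor from sheaves of modules to abelian sheaves preserves colimits
-/

set_option autoImplicit false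

universe w' w v u v' u'

open CategoryTheory CategoryTheory.Limits

namespace Groth.Agent.ModShf

variable {C : Type u'} [Category.{v'} C] {J : GrothendieckTopology C} (R : Sheaf J RingCat.{u})
  [HasSheafify J AddCommGrpCat.{v}] [J.WEqualsLocallyBijective AddCommGrpCat.{v}]

instance sheafificationToSheafPreservesColimitsOfShape (K : Type w) [Category.{w'} K]
    [HasColimitsOfShape K AddCommGrpCat.{v}] :
    PreservesColimitsOfShape K
      (PresheafOfModules.sheafification.{v} (𝟙 R.obj) ⋙ SheafOfModules.toSheaf R) := by
  have : PreservesColimitsOfShape K (presheafToSheaf J AddCommGrpCat.{v}) :=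
    (sheafificationAdjunction J AddCommGrpCat.{v}).leftAdjoint_preservesColimits.preservesColimitsOfShape
  exact preservesColimitsOfShape_of_natIso
    (PresheafOfModules.sheafificationCompToSheaf (𝟙 R.obj)).symm

instance toSheafPreservesColimitsOfShape (K : Type w) [Category.{w'} K]
    [HasColimitsOfShape K AddCommGrpCat.{v}] :
    PreservesColimitsOfShape K (SheafOfModules.toSheaf.{v} R) where
  preservesColimit {F} := by
    let e : F ≅ (F ⋙ SheafOfModules.forget R) ⋙ PresheafOfModules.sheafification (𝟙 R.obj) :=
      Functor.isoWhiskerLeft F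
        (asIso (PresheafOfModules.sheafificationAdjunction (𝟙 R.obj)).counit).symm
    have : PreservesColimit ((F ⋙ SheafOfModules.forget R) ⋙
        PresheafOfModules.sheafification (𝟙 R.obj)) (SheafOfModules.toSheaf.{v} R) :=
      preservesColimit_of_preserves_colimit_cocone
        (isColimitOfPreserves (PresheafOfModules.sheafification.{v} (𝟙 R.obj))
          (colimit.isColimit (F ⋙ SheafOfModules.forget R)))
        (isColimitOfPreserves
          (PresheafOfModules.sheafification.{v} (𝟙 R.obj) ⋙ SheafOfModules.toSheaf R)
          (colimit.isColimit (F ⋙ SheafOfModules.forget R)))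
    exact preservesColimit_of_iso_diagram _ e.symm

instance toSheafPreservesFiniteColimits [HasFiniteColimits AddCommGrpCat.{v}] :
    PreservesFiniteColimits (SheafOfModules.toSheaf.{v} R) :=
  ⟨fun _ _ _ => inferInstance⟩

instance toSheafPreservesFiniteLimits : PreservesFiniteLimits (SheafOfModules.toSheaf.{v} R) :=
  ⟨fun K _ _ => by
    have : PreservesLimitsOfShape K
        (SheafOfModules.toSheaf.{v} R ⋙ sheafToPresheaf J AddCommGrpCat.{v}) :=
      inferInstanceAs (PreservesLimitsOfShape K
        (SheafOfModules.forget R ⋙ PresheafOfModules.toPresheaf R.obj))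
    exact preservesLimitsOfShape_of_reflects_of_preserves _ (sheafToPresheaf J AddCommGrpCat.{v})⟩

end Groth.Agent.ModShf
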