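import Mathlib.Algebra.Category.ModuleCat.Sheaf.Abelian
import Mathlib.Algebra.Category.ModuleCat.Sheaf.Colimits
import Mathlib.Algebra.Category.ModuleCat.Sheaf.Limits
import Mathlib.Algebra.Category.ModuleCat.Presheaf.Generator
import Mathlib.Algebra.Category.ModuleCat.Presheaf.Colimits
import Mathlib.Algebra.Category.ModuleCat.Presheaf.Limits
import Mathlib.Algebra.Category.Grp.AB
import Mathlib.Algebra.Category.Grp.FilteredColimits
import Mathlib.CategoryTheory.Abelian.GrothendieckAxioms.FunctorCategory
import Mathlib.CategoryTheory.Abelian.GrothendieckCategory.Basic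
import Mathlib.CategoryTheory.Abelian.GrothendieckCategory.EnoughInjectives
import Mathlib.CategoryTheory.Abelian.GrothendieckCategory.HasExt
import Mathlib.CategoryTheory.Abelian.Injective.Resolution
import Mathlib.AlgebraicGeometry.Modules.Sheaf

/-!
# Sheaves of modules form a Grothendieck abelian category

AB5 for presheaves and sheaves of modules, a separating set, and the resulting instances
`IsGrothendieckAbelian`, `EnoughInjectives`, `HasInjectiveResolutions` and `HasExt`.
-/

set_option autoImplicit false

universe w' w v u v' u'

open CategoryTheory CategoryTheory.Limits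

namespace Groth.Agent.ModShf

section Presheaf

variable {C : Type u'} [Category.{v'} C] (R : Cᵒᵖ ⥤ RingCat.{u})

instance presheafHasExactColimitsOfShape (K : Type w) [Category.{w'} K]
    [HasColimitsOfShape K AddCommGrpCat.{v}] [HasExactColimitsOfShape K AddCommGrpCat.{v}] :
    HasExactColimitsOfShape K (PresheafOfModules.{v} R) :=
  HasExactColimitsOfShape.domain_of_functor K (PresheafOfModules.toPresheaf R)

end Presheaf

section Sheaf

variable {C : Type u'} [Category.{v'} C] {J : GrothendieckTopology C} (R : Sheaf J RingCat.{u})
  [HasSheafify J AddCommGrpCat.{v}] [J.WEqualsLocallyBijective AddCommGrpCat.{v}]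

/-- Colimits of a shape are exact on sheaves of modules as soon as they are on abelian groups. -/
instance sheafHasExactColimitsOfShape (K : Type w) [Category.{w'} K]
    [HasColimitsOfShape K AddCommGrpCat.{v}] [HasExactColimitsOfShape K AddCommGrpCat.{v}] :
    HasExactColimitsOfShape K (SheafOfModules.{v} R) :=
  (PresheafOfModules.sheafificationAdjunction (𝟙 R.obj)).hasExactColimitsOfShape K

end Sheaf

section Small

variable {C : Type u} [SmallCategory C] {J : GrothendieckTopology C} (R : Sheaf J RingCat.{u})

/-- The sheafifications of the free presheaves of modules on representables. -/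
noncomputable def freeSheafYoneda (U : C) : SheafOfModules.{u} R :=
  (PresheafOfModules.sheafification (𝟙 R.obj)).obj
    ((PresheafOfModules.free R.obj).obj (yoneda.obj U))

/-- Maps out of `freeSheafYoneda R U` are the sections over `U`. -/
noncomputable def freeSheafYonedaEquiv (U : C) (M : SheafOfModules.{u} R) :
    (freeSheafYoneda R U ⟶ M) ≃ M.val.obj (Opposite.op U) :=
  ((PresheafOfModules.sheafificationAdjunction (𝟙 R.obj)).homEquiv _ M).trans
    PresheafOfModules.freeYonedaEquiv

theorem freeSheafYonedaEquiv_comp (U : C) {M N : SheafOfModules.{u} R}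
    (g : freeSheafYoneda R U ⟶ M) (f : M ⟶ N) :
    freeSheafYonedaEquiv R U N (g ≫ f) = f.val.app _ (freeSheafYonedaEquiv R U M g) := by
  let adj := PresheafOfModules.sheafificationAdjunction (𝟙 R.obj)
  exact (congrArg PresheafOfModules.freeYonedaEquiv (adj.homEquiv_naturality_right g f)).trans
    (PresheafOfModules.freeYonedaEquiv_comp _ _)

theorem isSeparating_freeSheafYoneda :
    ObjectProperty.IsSeparating (ObjectProperty.ofObj (freeSheafYoneda R)) := by
  intro M N f g h
  apply SheafOfModules.hom_ext
  ext ⟨U⟩ m
  obtain ⟨φ, rfl⟩ := (freeSheafYonedaEquiv R U M).surjective m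
  simpa only [freeSheafYonedaEquiv_comp] using
    congrArg (freeSheafYonedaEquiv R U N) (h _ ⟨U⟩ φ)

instance hasSeparator : HasSeparator (SheafOfModules.{u} R) :=
  ⟨⟨∐ (freeSheafYoneda R), (isSeparator_sigma _).2 (isSeparating_freeSheafYoneda R)⟩⟩

/-- Sheaves of modules over a sheaf of rings on a small site form a Grothendieck abelian category. -/
instance isGrothendieckAbelian : IsGrothendieckAbelian.{u} (SheafOfModules.{u} R) where
  hasFilteredColimitsOfSize := ⟨fun _ _ _ => inferInstance⟩
  ab5OfSize := ⟨fun _ _ _ => inferInstance⟩

instance enoughInjectives : EnoughInjectives (SheafOfModules.{u} R) :=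
  IsGrothendieckAbelian.enoughInjectives.{u}

instance hasInjectiveResolutions : HasInjectiveResolutions (SheafOfModules.{u} R) :=
  inferInstance

instance hasExt : HasExt.{u} (SheafOfModules.{u} R) :=
  inferInstance

end Small

section Scheme

open AlgebraicGeometry

variable (X : Scheme.{u})

instance schemeModulesIsGrothendieckAbelian : IsGrothendieckAbelian.{u} X.Modules :=
  isGrothendieckAbelian X.ringCatSheaf

instance schemeModulesEnoughInjectives : EnoughInjectives X.Modules :=
  enoughInjectives X.ringCatSheaf

instance schemeModulesHasInjectiveResolutions : HasInjectiveResolutions X.Modules :=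
  inferInstance

instance schemeModulesHasExt : HasExt.{u} X.Modules :=
  inferInstance

end Scheme

end Groth.Agent.ModShf
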