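import Mathlib.CategoryTheory.Abelian.RightDerived
import Mathlib.CategoryTheory.Abelian.Injective.Resolution
import Mathlib.Algebra.Homology.HomologySequenceLemmas
import Mathlib.Algebra.Homology.HomologicalComplexAbelian
import Mathlib.Algebra.Homology.HomologicalComplexLimits
import Mathlib.Algebra.Homology.Homotopy
import Mathlib.CategoryTheory.Preadditive.Injective.Basic

/-!
# Right derived functors through resolutions by a good class

If `P` is a class of objects containing the injectives, closed under cokernels of monomorphisms,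
on short exact sequences starting in which the left exact functor `F` is exact, then `F` applied to
any resolution by objects in `P` computes the right derived functors.  As a consequence, for an exact
functor `G` sending injectives into `P`, `R^n (G ⋙ F) ≅ G ⋙ R^n F`.
-/

set_option autoImplicit false

universe v v' v'' u u' u''

open CategoryTheory CategoryTheory.Limits HomologicalComplex CochainComplex

namespace Groth.Agent.ModShf.AcyclicRes

variable {B : Type u} [Category.{v} B] [Abelian B]

/-- A resolution of `X`, with no condition on the terms. -/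
structure Res (X : B) where
  K : CochainComplex B ℕ
  ι : (CochainComplex.single₀ B).obj X ⟶ K
  qi : QuasiIso ι

attribute [instance] Res.qi

namespace Res

variable {X : B} (R : Res X)

theorem exactAt_succ (n : ℕ) : R.K.ExactAt (n + 1) := by
  rw [← quasiIsoAt_iff_exactAt R.ι (n + 1) (exactAt_succ_single_obj _ _)]
  infer_instance

theorem exact_succ (n : ℕ) :
    (ShortComplex.mk _ _ (R.K.d_comp_d n (n + 1) (n + 2))).Exact :=
  (R.K.exactAt_iff' n (n + 1) (n + 2) (by simp)
    (by simp only [CochainComplex.next]; rfl)).1 (R.exactAt_succ n)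

set_option backward.isDefEq.respectTransparency false in
@[reassoc]
theorem ι_zero_d : R.ι.f 0 ≫ R.K.d 0 1 = 0 := by simp

/-- The augmentation. -/
noncomputable def ι₀ : X ⟶ R.K.X 0 := R.ι.f 0

theorem ι₀_d : R.ι₀ ≫ R.K.d 0 1 = 0 := R.ι_zero_d

set_option backward.defeqAttrib.useBackward true in
set_option backward.isDefEq.respectTransparency false in
noncomputable def isLimitKernelFork : IsLimit (KernelFork.ofι _ R.ι_zero_d) := by
  refine IsLimit.ofIsoLimit (R.K.cyclesIsKernel 0 1 (by simp)) (Iso.symm ?_)
  refine Fork.ext ((singleObjHomologySelfIso _ _ _).symm ≪≫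
    isoOfQuasiIsoAt R.ι 0 ≪≫ R.K.isoHomologyπ₀.symm) ?_
  rw [← cancel_epi (singleObjHomologySelfIso (ComplexShape.up ℕ) _ _).hom,
    ← cancel_epi (CochainComplex.isoHomologyπ₀ _).hom,
    ← cancel_epi (singleObjCyclesSelfIso (ComplexShape.up ℕ) _ _).inv]
  simp

theorem exact₀ : (ShortComplex.mk _ _ R.ι₀_d).Exact :=
  ShortComplex.exact_of_f_is_kernel _ R.isLimitKernelFork

theorem mono_ι_zero : Mono R.ι₀ := mono_of_isLimit_fork R.isLimitKernelFork

/-- The augmentation of an injective resolution. -/
noncomputable def rι₀ {Y : B} (J : InjectiveResolution Y) : Y ⟶ J.cocomplex.X 0 := J.ι.f 0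

theorem rι₀_d {Y : B} (J : InjectiveResolution Y) : rι₀ J ≫ J.cocomplex.d 0 1 = 0 :=
  J.ι_f_zero_comp_complex_d

variable {Y : B} (f : X ⟶ Y) (J : InjectiveResolution Y)

noncomputable def descF0 : R.K.X 0 ⟶ J.cocomplex.X 0 :=
  have := R.mono_ι_zero
  Injective.factorThru (f ≫ rι₀ J) R.ι₀

@[reassoc]
theorem descF0_comm : R.ι₀ ≫ R.descF0 f J = f ≫ rι₀ J :=
  have := R.mono_ι_zero
  Injective.comp_factorThru _ _

noncomputable def descF1 : R.K.X 1 ⟶ J.cocomplex.X 1 :=
  R.exact₀.descToInjective (R.descF0 f J ≫ J.cocomplex.d 0 1)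
    ((R.descF0_comm_assoc f J _).trans
      (by rw [rι₀_d, comp_zero]))

theorem descF1_comm : R.K.d 0 1 ≫ R.descF1 f J = R.descF0 f J ≫ J.cocomplex.d 0 1 :=
  R.exact₀.comp_descToInjective _ _

/-- A morphism extends to a map from a resolution to an injective resolution. -/
noncomputable def desc : R.K ⟶ J.cocomplex :=
  CochainComplex.mkHom _ _ (R.descF0 f J) (R.descF1 f J) (R.descF1_comm f J).symm
    fun n ⟨g, g', w⟩ =>
      ⟨(R.exact_succ n).descToInjective (g' ≫ J.cocomplex.d (n + 1) (n + 2))
        (by simp [← reassoc_of% w]),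
       ((R.exact_succ n).comp_descToInjective _ _).symm⟩

set_option backward.isDefEq.respectTransparency false in
theorem desc_zero : (R.desc f J).f 0 = R.descF0 f J := by simp [desc]

set_option backward.isDefEq.respectTransparency false in
theorem ι_desc : R.ι ≫ R.desc f J = (CochainComplex.single₀ B).map f ≫ J.ι := by
  ext
  simpa [desc_zero, ι₀, rι₀] using R.descF0_comm f J

theorem nonempty_homotopy_of_comp_eq_zero {J : InjectiveResolution Y}
    (φ : R.K ⟶ J.cocomplex) (comm : R.ι ≫ φ = 0) : Nonempty (Homotopy φ 0) := by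
  have h0 : R.ι.f 0 ≫ φ.f 0 = 0 := by rw [← HomologicalComplex.comp_f, comm]; rfl
  let z0 : R.K.X 1 ⟶ J.cocomplex.X 0 := R.exact₀.descToInjective (φ.f 0) h0
  have hz0 : R.K.d 0 1 ≫ z0 = φ.f 0 := R.exact₀.comp_descToInjective _ _
  let z1 : R.K.X 2 ⟶ J.cocomplex.X 1 :=
    (R.exact_succ 0).descToInjective (φ.f 1 - z0 ≫ J.cocomplex.d 0 1)
      (by rw [Preadditive.comp_sub, reassoc_of% hz0, HomologicalComplex.Hom.comm, sub_self])
  have hz1 : R.K.d 1 2 ≫ z1 = φ.f 1 - z0 ≫ J.cocomplex.d 0 1 :=
    (R.exact_succ 0).comp_descToInjective _ _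
  refine ⟨Homotopy.mkCoinductive φ z0 hz0.symm z1 (by rw [hz1]; abel) fun n ⟨g, g', w⟩ => ?_⟩
  have hg : R.K.d (n + 1) (n + 2) ≫ (φ.f (n + 2) - g' ≫ J.cocomplex.d (n + 1) (n + 2)) = 0 := by
    rw [Preadditive.comp_sub, ← HomologicalComplex.Hom.comm, w]
    simp
  refine ⟨(R.exact_succ (n + 1)).descToInjective _ hg, ?_⟩
  rw [(R.exact_succ (n + 1)).comp_descToInjective _ hg]
  abel

theorem nonempty_homotopy (J : InjectiveResolution Y) (φ ψ : R.K ⟶ J.cocomplex)
    (h : R.ι ≫ φ = R.ι ≫ ψ) : Nonempty (Homotopy φ ψ) := by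
  obtain ⟨H⟩ := R.nonempty_homotopy_of_comp_eq_zero (φ - ψ) (by simp [h])
  exact ⟨Homotopy.equivSubZero.symm H⟩

theorem quasiIso_desc_id (J : InjectiveResolution X) : QuasiIso (R.desc (𝟙 X) J) := by
  have h := R.ι_desc (𝟙 X) J
  rw [CategoryTheory.Functor.map_id, Category.id_comp] at h
  have : QuasiIso (R.ι ≫ R.desc (𝟙 X) J) := by rw [h]; infer_instance
  exact quasiIso_of_comp_left R.ι _

end Res

section Contractible

variable [EnoughInjectives B] (K : CochainComplex B ℕ)

open ZeroObject in
noncomputable def env : ℕ → B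
  | 0 => 0
  | n + 1 => Injective.under (K.X (n + 1))

instance env_injective (n : ℕ) : Injective (env K n) := by
  cases n
  · exact IsZero.injective (Limits.isZero_zero B)
  · exact Injective.injective_under _

noncomputable def toEnv : (n : ℕ) → K.X n ⟶ env K n
  | 0 => 0
  | n + 1 => Injective.ι (K.X (n + 1))

instance toEnv_mono (n : ℕ) : Mono (toEnv K (n + 1)) :=
  inferInstanceAs (Mono (Injective.ι _))

/-- A contractible complex of injectives receiving a map from `K` which is monic in positive degrees. -/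
noncomputable def cover : CochainComplex B ℕ :=
  CochainComplex.of (fun n => env K n ⊞ env K (n + 1)) (fun _ => biprod.snd ≫ biprod.inl)
    (fun _ => by simp)

noncomputable def toCover : K ⟶ cover K :=
  { f := fun n => biprod.lift (toEnv K n) (K.d n (n + 1) ≫ toEnv K (n + 1))
    comm' := fun i j (hij : i + 1 = j) => by
      subst hij
      simp only [cover, CochainComplex.of_d]
      apply biprod.hom_ext <;> simp }

theorem toCover_f (n : ℕ) :
    (toCover K).f n = biprod.lift (toEnv K n) (K.d n (n + 1) ≫ toEnv K (n + 1)) := rfl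

instance cover_injective (n : ℕ) : Injective ((cover K).X n) :=
  inferInstanceAs (Injective (env K n ⊞ env K (n + 1)))

noncomputable def coverH (j : ℕ) : (cover K).X (j + 1) ⟶ (cover K).X j :=
  (biprod.fst ≫ biprod.inr :
    env K (j + 1) ⊞ env K (j + 1 + 1) ⟶ env K j ⊞ env K (j + 1))

noncomputable def coverHomotopy : Homotopy (𝟙 (cover K)) 0 where
  hom i j := if h : j + 1 = i then
      eqToHom (congrArg (fun m => (cover K).X m) h.symm) ≫ coverH K j
    else 0
  zero i j hij := dif_neg hij
  comm i := by
    rcases i with _ | n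
    · rw [Homotopy.prevD_zero_cochainComplex, Homotopy.dNext_cochainComplex, dif_pos rfl,
        eqToHom_refl, Category.id_comp, HomologicalComplex.zero_f, HomologicalComplex.id_f,
        add_zero, add_zero]
      simp only [coverH, cover, CochainComplex.of_d]
      change 𝟙 (env K 0 ⊞ env K (0 + 1)) = (biprod.snd ≫ biprod.inl) ≫ biprod.fst ≫ biprod.inr
      have h : (biprod.fst : env K 0 ⊞ env K (0 + 1) ⟶ env K 0) = 0 :=
        (Limits.isZero_zero B).eq_of_tgt _ _
      rw [← biprod.total, h]
      simp
    · rw [Homotopy.prevD_succ_cochainComplex, Homotopy.dNext_cochainComplex, dif_pos rfl,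
        dif_pos rfl, eqToHom_refl, Category.id_comp, eqToHom_refl, Category.id_comp,
        HomologicalComplex.zero_f, HomologicalComplex.id_f, add_zero]
      simp only [coverH, cover, CochainComplex.of_d]
      change 𝟙 (env K (n + 1) ⊞ env K (n + 1 + 1)) =
        (biprod.snd ≫ biprod.inl) ≫ biprod.fst ≫ biprod.inr +
          (biprod.fst ≫ biprod.inr) ≫ biprod.snd ≫ biprod.inl
      simp
      rw [← biprod.total]
      exact add_comm _ _

end Contractible

variable {C : Type u'} [Category.{v'} C] [Abelian C]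

/-- A class of objects on which the functor `F` is acyclic, in the elementary sense. -/
structure GoodClass (F : B ⥤ C) (P : ObjectProperty B) : Prop where
  of_injective : ∀ X : B, Injective X → P X
  coker : ∀ S : ShortComplex B, S.ShortExact → P S.X₁ → P S.X₂ → P S.X₃
  epi : ∀ S : ShortComplex B, S.ShortExact → P S.X₁ → Epi (F.map S.g)

section

variable {F : B ⥤ C} [F.Additive] [PreservesFiniteLimits F] {P : ObjectProperty B}
  (hP : GoodClass F P)
include hP

theorem map_shortExact (S : ShortComplex B) (hS : S.ShortExact) (h₁ : P S.X₁) :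
    (S.map F).ShortExact := by
  have := hS.mono_f
  have := hP.epi S hS h₁
  exact ShortComplex.ShortExact.mk' (hS.exact.map_of_mono_of_preservesKernel F inferInstance
    inferInstance) (inferInstanceAs (Mono (F.map S.f))) this

theorem map_acyclic (Q : CochainComplex B ℕ) (hQ : Q.Acyclic) (hterm : ∀ n, P (Q.X n)) :
    ((F.mapHomologicalComplex _).obj Q).Acyclic := by
  have hsc : ∀ n, (ShortComplex.mk (Q.iCycles n) (Q.toCycles n (n + 1))
      (by rw [← cancel_mono (Q.iCycles (n + 1))]; simp)).ShortExact := by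
    intro n
    have hepi : Epi (Q.toCycles n (n + 1)) := Preadditive.epi_of_cancel_zero _ fun g hg => by
      let hc := Q.homologyIsCokernel n (n + 1) (by simp)
      obtain ⟨l, hl⟩ := CokernelCofork.IsColimit.desc' hc g hg
      rw [← hl]
      exact (congrArg (· ≫ l)
        (((Q.exactAt_iff_isZero_homology (n + 1)).1 (hQ (n + 1))).eq_of_tgt _ 0)).trans zero_comp
    refine ShortComplex.ShortExact.mk' ?_ inferInstance hepi
    apply ShortComplex.exact_of_f_is_kernel
    refine KernelFork.IsLimit.ofι' _ _ fun k hk => ⟨Q.liftCycles k (n + 1) (by simp)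
      (by simpa using congrArg (· ≫ Q.iCycles (n + 1)) hk), Q.liftCycles_i _ _ _ _⟩
  have hcyc : ∀ n, P (Q.cycles n) := by
    intro n
    induction n with
    | zero =>
      refine hP.of_injective _ (IsZero.injective ?_)
      exact ((Q.exactAt_iff_isZero_homology 0).1 (hQ 0)).of_iso (Q.isoHomologyπ₀)
    | succ n ih => exact hP.coker _ (hsc n) ih (hterm n)
  intro i
  rcases i with _ | n
  · rw [HomologicalComplex.exactAt_iff' _ 0 0 1 (by simp) (by simp)]
    have h0 : Mono (Q.d 0 1) := by
      have h := (Q.exactAt_iff' 0 0 1 (by simp) (by simp)).1 (hQ 0)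
      exact (ShortComplex.exact_iff_mono _ (Q.shape 0 0 (by simp))).1 h
    exact (ShortComplex.exact_iff_mono _
      ((congrArg F.map (Q.shape 0 0 (by simp))).trans (F.map_zero _ _))).2
      (inferInstanceAs (Mono (F.map (Q.d 0 1))))
  · rw [HomologicalComplex.exactAt_iff' _ n (n + 1) (n + 1 + 1) (by simp) (by simp)]
    have hex : (ShortComplex.mk (F.map (Q.iCycles (n + 1))) (F.map (Q.d (n + 1) (n + 1 + 1)))
        (by rw [← F.map_comp, Q.iCycles_d, F.map_zero])).Exact :=
      (ShortComplex.exact_of_f_is_kernel (ShortComplex.mk _ _ (Q.iCycles_d (n + 1) (n + 1 + 1)))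
        (Q.cyclesIsKernel (n + 1) (n + 1 + 1) (by simp))).map_of_mono_of_preservesKernel F
          inferInstance inferInstance
    let φ : ShortComplex.mk (F.map (Q.d n (n + 1))) (F.map (Q.d (n + 1) (n + 1 + 1)))
        (by rw [← F.map_comp, Q.d_comp_d, F.map_zero]) ⟶
        ShortComplex.mk (F.map (Q.iCycles (n + 1))) (F.map (Q.d (n + 1) (n + 1 + 1)))
          (by rw [← F.map_comp, Q.iCycles_d, F.map_zero]) :=
      { τ₁ := F.map (Q.toCycles n (n + 1))
        τ₂ := 𝟙 _
        τ₃ := 𝟙 _
        comm₁₂ := by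
          dsimp
          rw [← F.map_comp, Q.toCycles_i, Category.comp_id]
        comm₂₃ := by simp }
    have : Epi φ.τ₁ := hP.epi _ (hsc n) (hcyc n)
    have : IsIso φ.τ₂ := inferInstanceAs (IsIso (𝟙 _))
    have : Mono φ.τ₃ := inferInstanceAs (Mono (𝟙 _))
    exact (ShortComplex.exact_iff_of_epi_of_isIso_of_mono φ).2 hex

theorem quasiIso_map_of_mono {K L : CochainComplex B ℕ} (φ : K ⟶ L) [Mono φ] [QuasiIso φ]
    (hK : ∀ n, P (K.X n)) (hL : ∀ n, P (L.X n)) :
    QuasiIso ((F.mapHomologicalComplex _).map φ) := by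
  let S := ShortComplex.mk φ (cokernel.π φ) (cokernel.condition φ)
  have hS : S.ShortExact :=
    ShortComplex.ShortExact.mk' (ShortComplex.exact_cokernel φ) inferInstance inferInstance
  have hdeg := fun n => (shortExact_iff_degreewise_shortExact S).1 hS n
  have hS' : (S.map (F.mapHomologicalComplex (ComplexShape.up ℕ))).ShortExact :=
    shortExact_of_degreewise_shortExact _ fun n => map_shortExact hP _ (hdeg n) (hK n)
  have hac : ((F.mapHomologicalComplex _).obj (cokernel φ)).Acyclic :=
    map_acyclic hP _ (hS.acyclic_X₃ ‹_›) fun n => hP.coker _ (hdeg n) (hK n) (hL n)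
  refine (quasiIso_iff _).2 fun i => (quasiIsoAt_iff_isIso_homologyMap _ i).2 ?_
  have hz : ∀ j, IsZero (((F.mapHomologicalComplex _).obj (cokernel φ)).homology j) := fun j =>
    ((exactAt_iff_isZero_homology _ j).1 (hac j))
  have hepi : Epi (homologyMap ((F.mapHomologicalComplex _).map φ) i) :=
    (hS'.homology_exact₂ i).epi_f ((hz i).eq_of_tgt _ _)
  have hmono : Mono (homologyMap ((F.mapHomologicalComplex _).map φ) i) := by
    rcases i with _ | j
    · have := hS'.mono_f
      exact HomologicalComplex.mono_homologyMap_of_mono_of_not_rel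
        (S.map (F.mapHomologicalComplex (ComplexShape.up ℕ))).f 0 (by simp)
    · exact (hS'.homology_exact₁ j (j + 1) rfl).mono_g ((hz j).eq_of_src _ _)
  exact isIso_of_mono_of_epi _

variable [EnoughInjectives B]

theorem quasiIso_map_desc {X : B} (R : Res X) (hR : ∀ n, P (R.K.X n))
    (J : InjectiveResolution X) :
    QuasiIso ((F.mapHomologicalComplex _).map (R.desc (𝟙 X) J)) := by
  let φ := R.desc (𝟙 X) J
  let ψ : R.K ⟶ J.cocomplex ⊞ cover R.K := biprod.lift φ (toCover R.K)
  let h : HomotopyEquiv (J.cocomplex ⊞ cover R.K) J.cocomplex :=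
    { hom := biprod.fst
      inv := biprod.inl
      homotopyHomInvId :=
        (Homotopy.equivSubZero.symm
          ((Homotopy.ofEq (show biprod.fst ≫ biprod.inl - 𝟙 (J.cocomplex ⊞ cover R.K) =
              biprod.snd ≫ 𝟙 _ ≫ (-biprod.inr) by
            rw [← biprod.total]; simp only [Preadditive.comp_neg, Category.id_comp]; abel)).trans
            ((((coverHomotopy R.K).compRight (-biprod.inr)).compLeft biprod.snd).trans
              (Homotopy.ofEq (by simp)))))
      homotopyInvHomId := Homotopy.ofEq biprod.inl_fst }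
  have hψφ : ψ ≫ biprod.fst = φ := biprod.lift_fst _ _
  have : QuasiIso (biprod.fst : J.cocomplex ⊞ cover R.K ⟶ J.cocomplex) :=
    HomotopyEquiv.quasiIso_hom h
  have : QuasiIso (ψ ≫ biprod.fst) := by rw [hψφ]; exact R.quasiIso_desc_id J
  have : QuasiIso ψ := quasiIso_of_comp_right ψ biprod.fst
  have : ∀ n, Mono (ψ.f n) := by
    intro n
    apply Preadditive.mono_of_cancel_zero
    intro T g hg
    have h1 : g ≫ φ.f n = 0 := by
      rw [← hψφ, HomologicalComplex.comp_f, ← Category.assoc, hg, zero_comp]
    have h2 : g ≫ (toCover R.K).f n = 0 := by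
      rw [show (toCover R.K).f n = ψ.f n ≫ (biprod.snd : J.cocomplex ⊞ cover R.K ⟶ _).f n by
        rw [← HomologicalComplex.comp_f, biprod.lift_snd], ← Category.assoc, hg, zero_comp]
    rcases n with _ | m
    · have hd : g ≫ R.K.d 0 1 = 0 := by
        have e : (g ≫ R.K.d 0 (0 + 1)) ≫ toEnv R.K (0 + 1) = 0 := by
          have h3 : g ≫ biprod.lift (toEnv R.K 0) (R.K.d 0 (0 + 1) ≫ toEnv R.K (0 + 1)) = 0 := h2
          simpa using h3 =≫ biprod.snd
        exact zero_of_comp_mono _ e
      have := R.mono_ι_zero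
      obtain ⟨l, hl⟩ : ∃ l : T ⟶ X, l ≫ R.ι₀ = g :=
        ⟨_, (KernelFork.IsLimit.lift' R.isLimitKernelFork g hd).2⟩
      rw [← hl, Category.assoc, show φ.f 0 = _ from R.desc_zero _ _, Res.descF0_comm,
        Category.id_comp] at h1
      have : Mono (Res.rι₀ J) := inferInstanceAs (Mono (J.ι.f 0))
      rw [← hl, zero_of_comp_mono _ h1, zero_comp]
    · have h3 : g ≫ biprod.lift (toEnv R.K (m + 1))
          (R.K.d (m + 1) (m + 1 + 1) ≫ toEnv R.K (m + 1 + 1)) = 0 := h2
      have e : g ≫ toEnv R.K (m + 1) = 0 := by simpa using h3 =≫ biprod.fst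
      exact zero_of_comp_mono _ e
  have : Mono ψ := HomologicalComplex.mono_of_mono_f ψ ‹_›
  have := fun n => (HomologicalComplex.eval B (ComplexShape.up ℕ) n).preservesFiniteBiproductsOfAdditive
  have := fun n => preservesBinaryBiproduct_of_preservesBiproduct
    (HomologicalComplex.eval B (ComplexShape.up ℕ) n) J.cocomplex (cover R.K)
  have hterm : ∀ n, P ((J.cocomplex ⊞ cover R.K).X n) := fun n =>
    hP.of_injective _ (Injective.of_iso
      ((HomologicalComplex.eval B (ComplexShape.up ℕ) n).mapBiprod J.cocomplex (cover R.K)).symm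
      (show Injective (J.cocomplex.X n ⊞ (cover R.K).X n) from inferInstance))
  have := quasiIso_map_of_mono hP ψ hR hterm
  have : QuasiIso ((F.mapHomologicalComplex _).map (biprod.fst : J.cocomplex ⊞ cover R.K ⟶ _)) :=
    HomotopyEquiv.quasiIso_hom (F.mapHomotopyEquiv h)
  rw [show R.desc (𝟙 X) J = ψ ≫ biprod.fst from hψφ.symm, Functor.map_comp]
  infer_instance

end

section Compare

theorem glue {Z₀ A₁ A₂ B₁ B₂ Q S R : C} {p : Z₀ ⟶ A₁} {a : A₁ ⟶ A₂} {x : A₁ ⟶ B₁} {y : A₂ ⟶ B₂}
    {b : B₁ ⟶ B₂} {q : Q ≅ A₂} {s : S ≅ B₁} {r : B₂ ⟶ R} (h : a ≫ y = x ≫ b) :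
    (p ≫ a ≫ q.inv) ≫ q.hom ≫ y ≫ r = (p ≫ x ≫ s.inv) ≫ s.hom ≫ b ≫ r := by
  simp [reassoc_of% h]

variable {A : Type u''} [Category.{v''} A] [Abelian A] (G : A ⥤ B) [G.Additive]
  [PreservesFiniteLimits G] [PreservesFiniteColimits G]

/-- The image of an injective resolution under an exact functor is a resolution. -/
noncomputable def mapRes {X : A} (I : InjectiveResolution X) : Res (G.obj X) where
  K := (G.mapHomologicalComplex _).obj I.cocomplex
  ι := (HomologicalComplex.singleMapHomologicalComplex G (ComplexShape.up ℕ) 0).inv.app X ≫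
    (G.mapHomologicalComplex _).map I.ι
  qi := inferInstance

variable [HasInjectiveResolutions A] [EnoughInjectives B] (F : B ⥤ C) [F.Additive]

noncomputable def compareApp (X : A) (n : ℕ) :
    ((G ⋙ F).rightDerived n).obj X ⟶ (F.rightDerived n).obj (G.obj X) :=
  ((injectiveResolution X).isoRightDerivedObj (G ⋙ F) n).hom ≫
    homologyMap ((F.mapHomologicalComplex _).map
      ((mapRes G (injectiveResolution X)).desc (𝟙 _) (injectiveResolution (G.obj X)))) n ≫
    ((injectiveResolution (G.obj X)).isoRightDerivedObj F n).inv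

/-- The comparison `R^n (G ⋙ F) ⟶ G ⋙ R^n F` for an exact functor `G`. -/
noncomputable def compare (n : ℕ) : (G ⋙ F).rightDerived n ⟶ G ⋙ F.rightDerived n where
  app X := compareApp G F X n
  naturality {X Y} f := by
    let IX := injectiveResolution X
    let IY := injectiveResolution Y
    let JX := injectiveResolution (G.obj X)
    let JY := injectiveResolution (G.obj Y)
    let a : IX.cocomplex ⟶ IY.cocomplex := InjectiveResolution.desc f IY IX
    let b : JX.cocomplex ⟶ JY.cocomplex := InjectiveResolution.desc (G.map f) JY JX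
    let cX := (mapRes G IX).desc (𝟙 _) JX
    let cY := (mapRes G IY).desc (𝟙 _) JY
    obtain ⟨H⟩ := (mapRes G IX).nonempty_homotopy JY
      ((G.mapHomologicalComplex _).map a ≫ cY) (cX ≫ b) (by
        rw [← Category.assoc (mapRes G IX).ι cX b, (mapRes G IX).ι_desc]
        simp only [CategoryTheory.Functor.map_id, Category.id_comp, b,
          InjectiveResolution.desc_commutes]
        simp only [mapRes, Category.assoc]
        have e1 := (G.mapHomologicalComplex (ComplexShape.up ℕ)).congr_map
          (InjectiveResolution.desc_commutes f IY IX)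
        rw [Functor.map_comp, Functor.map_comp] at e1
        have e2 := (singleMapHomologicalComplex G (ComplexShape.up ℕ) 0).inv.naturality f
        have e3 := (mapRes G IY).ι_desc (𝟙 _) JY
        rw [CategoryTheory.Functor.map_id, Category.id_comp] at e3
        refine (congrArg (_ ≫ ·) ((Category.assoc _ _ _).symm.trans
          (congrArg (· ≫ cY) e1))).trans ?_
        refine ((congrArg (_ ≫ ·) (Category.assoc _ _ _)).trans (Category.assoc _ _ _).symm).trans ?_
        refine (congrArg (· ≫ _) e2.symm).trans ((Category.assoc _ _ _).trans ?_)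
        exact congrArg (_ ≫ ·) ((Category.assoc _ _ _).symm.trans e3))
    let FF := F.mapHomologicalComplex (ComplexShape.up ℕ)
    have key : homologyMap (FF.map ((G.mapHomologicalComplex (ComplexShape.up ℕ)).map a)) n ≫
        homologyMap (FF.map cY) n = homologyMap (FF.map cX) n ≫ homologyMap (FF.map b) n :=
      ((homologyMap_comp _ _ n).symm.trans
        (congrArg (fun t => homologyMap t n) (FF.map_comp _ _).symm)).trans
        (((F.mapHomotopy H).homologyMap_eq n).trans
          ((congrArg (fun t => homologyMap t n) (FF.map_comp cX b)).trans (homologyMap_comp _ _ n)))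
    simp only [Functor.comp_map, compareApp]
    rw [(G ⋙ F).rightDerived_map_eq n f a (InjectiveResolution.desc_commutes f IY IX),
      F.rightDerived_map_eq n (G.map f) b (InjectiveResolution.desc_commutes (G.map f) JY JX)]
    change ((IX.isoRightDerivedObj (G ⋙ F) n).hom ≫
        homologyMap (((G ⋙ F).mapHomologicalComplex (ComplexShape.up ℕ)).map a) n ≫
          (IY.isoRightDerivedObj (G ⋙ F) n).inv) ≫
        (IY.isoRightDerivedObj (G ⋙ F) n).hom ≫
          homologyMap ((F.mapHomologicalComplex (ComplexShape.up ℕ)).map cY) n ≫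
            (JY.isoRightDerivedObj F n).inv =
      ((IX.isoRightDerivedObj (G ⋙ F) n).hom ≫
          homologyMap ((F.mapHomologicalComplex (ComplexShape.up ℕ)).map cX) n ≫
            (JX.isoRightDerivedObj F n).inv) ≫
        (JX.isoRightDerivedObj F n).hom ≫
          homologyMap ((F.mapHomologicalComplex (ComplexShape.up ℕ)).map b) n ≫
            (JY.isoRightDerivedObj F n).inv
    exact glue key

theorem isIso_compare {P : ObjectProperty B} [PreservesFiniteLimits F] (hP : GoodClass F P)
    (hG : ∀ X : A, Injective X → P (G.obj X)) (n : ℕ) : IsIso (compare G F n) := by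
  suffices ∀ X, IsIso ((compare G F n).app X) from NatIso.isIso_of_isIso_app _
  intro X
  have := quasiIso_map_desc hP (mapRes G (injectiveResolution X))
    (fun m => hG _ inferInstance) (injectiveResolution (G.obj X))
  have : IsIso (homologyMap ((F.mapHomologicalComplex _).map
      ((mapRes G (injectiveResolution X)).desc (𝟙 _) (injectiveResolution (G.obj X)))) n) :=
    (quasiIsoAt_iff_isIso_homologyMap _ n).1 inferInstance
  exact IsIso.comp_isIso' (Iso.isIso_hom _) (IsIso.comp_isIso' this (Iso.isIso_inv _))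

/-- `R^n (G ⋙ F) ≅ G ⋙ R^n F` for exact `G` sending injectives into a good class. -/
noncomputable def compareIso {P : ObjectProperty B} [PreservesFiniteLimits F] (hP : GoodClass F P)
    (hG : ∀ X : A, Injective X → P (G.obj X)) (n : ℕ) :
    (G ⋙ F).rightDerived n ≅ G ⋙ F.rightDerived n :=
  @asIso _ _ _ _ (compare G F n) (isIso_compare G F hP hG n)

end Compare

end Groth.Agent.ModShf.AcyclicRes
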