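import Groth.Agent.ModShf.GrothAb
import Groth.Agent.ModShf.ToSheaf
import Groth.Agent.ModShf.AcyclicRes
import Groth.Prelude.Def_Coh
import Groth.Prelude.Def_CohTop
import Mathlib.Topology.Sheaves.Flasque
import Mathlib.Topology.Sheaves.Functors
import Mathlib.Algebra.Category.Grp.Adjunctions
import Mathlib.CategoryTheory.Sites.EpiMono

/-!
# Injective sheaves are flasque; `R^q f_*` of modules and of abelian sheaves agree

* on a small site, sections of an injective sheaf (of modules, or of abelian groups) extend along
  monomorphisms of the site;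
* on a space, flasque sheaves form a good class for the direct image;
* `toAb (R^q f_* M) ≅ R^q f_* (toAb M)` naturally in the module `M`, for a morphism of schemes `f`.
-/

set_option autoImplicit false

universe u

open CategoryTheory CategoryTheory.Limits Opposite AlgebraicGeometry TopologicalSpace

namespace Groth.Agent.ModShf

section Site

variable {C : Type u} [SmallCategory C] {J : GrothendieckTopology C}

/-- The free sheaf of modules on a monomorphism of representables is a monomorphism. -/
noncomputable def freeSheafYonedaMap (R : Sheaf J RingCat.{u}) {V U : C} (g : V ⟶ U) :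
    freeSheafYoneda R V ⟶ freeSheafYoneda R U :=
  (PresheafOfModules.sheafification (𝟙 R.obj)).map
    ((PresheafOfModules.free R.obj).map (yoneda.map g))

theorem mono_freeSheafYonedaMap (R : Sheaf J RingCat.{u}) {V U : C} (g : V ⟶ U) [Mono g] :
    Mono (freeSheafYonedaMap R g) := by
  have : Mono ((PresheafOfModules.free R.obj).map (yoneda.map g)) := by
    apply PresheafOfModules.mono_of_injective
    intro W
    have hg : Function.Injective ((yoneda.map g).app W) := fun a b h => (cancel_mono g).1 h
    exact Finsupp.mapDomain_injective hg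
  exact inferInstanceAs (Mono ((PresheafOfModules.sheafification (𝟙 R.obj)).map _))

theorem freeSheafYonedaEquiv_map (R : Sheaf J RingCat.{u}) {V U : C} (g : V ⟶ U)
    (M : SheafOfModules.{u} R) (φ : freeSheafYoneda R U ⟶ M) :
    freeSheafYonedaEquiv R V M (freeSheafYonedaMap R g ≫ φ) =
      (M.val.map g.op).hom (freeSheafYonedaEquiv R U M φ) := by
  let adj := PresheafOfModules.sheafificationAdjunction (𝟙 R.obj)
  refine (congrArg PresheafOfModules.freeYonedaEquiv
    (adj.homEquiv_naturality_left ((PresheafOfModules.free R.obj).map (yoneda.map g)) φ)).trans ?_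
  let ψ := adj.homEquiv _ M φ
  change ((((PresheafOfModules.free R.obj).map (yoneda.map g)) ≫ ψ).app (op V)).hom
      (ModuleCat.freeMk (𝟙 V)) =
    (M.val.map g.op).hom ((ψ.app (op U)).hom (ModuleCat.freeMk (𝟙 U)))
  refine Eq.trans ?_ (PresheafOfModules.naturality_apply ψ g.op (ModuleCat.freeMk (𝟙 U)))
  refine congrArg (ψ.app (op V)).hom ?_
  refine (ModuleCat.free_map_apply (R := R.obj.obj (op V)) ((yoneda.map g).app (op V)) (𝟙 V)).trans ?_
  refine Eq.trans ?_
    (ModuleCat.freeDesc_apply (R := R.obj.obj (op U))
      (M := (ModuleCat.restrictScalars (R.obj.map g.op).hom).obj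
        ((ModuleCat.free (R.obj.obj (op V))).obj ((yoneda.obj U).obj (op V))))
      (↾fun x ↦ ModuleCat.freeMk ((yoneda.obj U).map g.op x)) (𝟙 U)).symm
  change ModuleCat.freeMk (𝟙 V ≫ g) = ModuleCat.freeMk (g ≫ 𝟙 U)
  rw [Category.id_comp, Category.comp_id]

/-- Sections of an injective sheaf of modules extend along monomorphisms. -/
theorem surjective_map_of_injective (R : Sheaf J RingCat.{u}) (M : SheafOfModules.{u} R)
    [Injective M] {V U : C} (g : V ⟶ U) [Mono g] :
    Function.Surjective (M.val.map g.op).hom := by
  intro s
  obtain ⟨φ, rfl⟩ := (freeSheafYonedaEquiv R V M).surjective s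
  have := mono_freeSheafYonedaMap R g
  refine ⟨freeSheafYonedaEquiv R U M (Injective.factorThru φ (freeSheafYonedaMap R g)), ?_⟩
  rw [← freeSheafYonedaEquiv_map, Injective.comp_factorThru]

/-- Sections of an injective abelian sheaf extend along monomorphisms. -/
theorem surjective_map_of_injective_ab (F : Sheaf J AddCommGrpCat.{u}) [Injective F]
    {V U : C} (g : V ⟶ U) [Mono g] : Function.Surjective (F.obj.map g.op).hom := by
  intro s
  let adj := ((Adjunction.whiskerRight Cᵒᵖ AddCommGrpCat.adj.{u}).comp
    (sheafificationAdjunction J AddCommGrpCat.{u}))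
  let L := (Functor.whiskeringRight Cᵒᵖ _ _).obj AddCommGrpCat.free ⋙
    presheafToSheaf J AddCommGrpCat.{u}
  have : Mono (yoneda.map g) := inferInstance
  have : Mono (L.map (yoneda.map g)) := by
    have : Mono (((Functor.whiskeringRight Cᵒᵖ _ _).obj AddCommGrpCat.free.{u}).map (yoneda.map g)) := by
      have : ∀ W, Mono ((Functor.whiskerRight (yoneda.map g) AddCommGrpCat.free.{u}).app W) :=
        fun W => inferInstanceAs (Mono (AddCommGrpCat.free.map ((yoneda.map g).app W)))
      exact NatTrans.mono_of_mono_app (Functor.whiskerRight (yoneda.map g) AddCommGrpCat.free.{u})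
    exact inferInstanceAs (Mono ((presheafToSheaf J _).map _))
  let φ : L.obj (yoneda.obj V) ⟶ F := (adj.homEquiv _ F).symm (yonedaEquiv.symm s)
  refine ⟨yonedaEquiv (adj.homEquiv _ F (Injective.factorThru φ (L.map (yoneda.map g)))), ?_⟩
  refine (yonedaEquiv_naturality
    (adj.homEquiv _ F (Injective.factorThru φ (L.map (yoneda.map g)))) g).trans ?_
  rw [← adj.homEquiv_naturality_left, Injective.comp_factorThru]
  simp [φ]

end Site

section Space

variable {X Y : TopCat.{u}}

theorem isFlasque_of_surjective (F : TopCat.Sheaf AddCommGrpCat.{u} X)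
    (h : ∀ {V U : Opens X} (g : V ⟶ U), Function.Surjective (F.obj.map g.op).hom) :
    TopCat.Sheaf.IsFlasque F :=
  ⟨fun i => (AddCommGrpCat.epi_iff_surjective _).2 (h i.unop)⟩

theorem isFlasque_of_injective (F : CohTop.Ab X) [Injective F] :
    TopCat.Sheaf.IsFlasque (X := X) F :=
  isFlasque_of_surjective (X := X) F fun g => surjective_map_of_injective_ab F g

instance pushPreservesFiniteLimits (f : X ⟶ Y) : PreservesFiniteLimits (CohTop.push f) :=
  ⟨fun K _ _ =>
    ((TopCat.Sheaf.pullbackPushforwardAdjunction AddCommGrpCat.{u} f).rightAdjoint_preservesLimits.preservesLimitsOfShape : PreservesLimitsOfShape K (CohTop.push f))⟩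

/-- Flasque sheaves are a good class for the direct image. -/
theorem flasque_goodClass (f : X ⟶ Y) :
    AcyclicRes.GoodClass (CohTop.push f) (fun F => TopCat.Sheaf.IsFlasque (X := X) F) where
  of_injective F _ := isFlasque_of_injective F
  coker S hS h₁ h₂ :=
    @TopCat.Sheaf.IsFlasque.of_shortExact_of_isFlasque₁₂ X S hS h₁ h₂
  epi S hS h₁ := by
    have : ∀ U, Epi (((CohTop.push f).map S.g).hom.app U) :=
      fun U => @TopCat.Sheaf.IsFlasque.epi_of_shortExact X _ S hS h₁
    have : Epi ((CohTop.push f).map S.g).hom := NatTrans.epi_of_epi_app _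
    exact (sheafToPresheaf _ _).epi_of_epi_map this

end Space

section PostComp

universe v₁ v₂ v₃ u₁ u₂ u₃

variable {A : Type u₁} [Category.{v₁} A] [Abelian A] [HasInjectiveResolutions A]
  {B : Type u₂} [Category.{v₂} B] [Abelian B] {C : Type u₃} [Category.{v₃} C] [Abelian C]

/-- Composition with an exact functor commutes with right derived functors. -/
noncomputable def rightDerivedCompIso (F : A ⥤ B) [F.Additive] (G : B ⥤ C) [G.Additive]
    [PreservesFiniteLimits G] [PreservesFiniteColimits G] (n : ℕ) :
    (F ⋙ G).rightDerived n ≅ F.rightDerived n ⋙ G :=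
  NatIso.ofComponents
    (fun M => (injectiveResolution M).isoRightDerivedObj (F ⋙ G) n ≪≫
      ShortComplex.mapHomologyIso
        (((F.mapHomologicalComplex _).obj (injectiveResolution M).cocomplex).sc n) G ≪≫
      G.mapIso ((injectiveResolution M).isoRightDerivedObj F n).symm)
    (fun {M N} φ => by
      let I := injectiveResolution M
      let I' := injectiveResolution N
      let a := InjectiveResolution.desc φ I' I
      have w := InjectiveResolution.desc_commutes φ I' I
      let T := (HomologicalComplex.shortComplexFunctor B (ComplexShape.up ℕ) n).map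
        ((F.mapHomologicalComplex _).map a)
      have key : HomologicalComplex.homologyMap
            (((F ⋙ G).mapHomologicalComplex (ComplexShape.up ℕ)).map a) n ≫
            (ShortComplex.mapHomologyIso
              (((F.mapHomologicalComplex _).obj I'.cocomplex).sc n) G).hom =
          (ShortComplex.mapHomologyIso (((F.mapHomologicalComplex _).obj I.cocomplex).sc n) G).hom ≫
            G.map (HomologicalComplex.homologyMap ((F.mapHomologicalComplex _).map a) n) :=
        ShortComplex.mapHomologyIso_hom_naturality T G
      rw [Functor.comp_map, Functor.rightDerived_map_eq (F ⋙ G) n φ a w,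
        Functor.rightDerived_map_eq F n φ a w]
      change ((I.isoRightDerivedObj (F ⋙ G) n).hom ≫
          HomologicalComplex.homologyMap
            (((F ⋙ G).mapHomologicalComplex (ComplexShape.up ℕ)).map a) n ≫
          (I'.isoRightDerivedObj (F ⋙ G) n).inv) ≫
          (I'.isoRightDerivedObj (F ⋙ G) n).hom ≫
            (ShortComplex.mapHomologyIso
              (((F.mapHomologicalComplex _).obj I'.cocomplex).sc n) G).hom ≫
              G.map (I'.isoRightDerivedObj F n).inv =
        ((I.isoRightDerivedObj (F ⋙ G) n).hom ≫
          (ShortComplex.mapHomologyIso (((F.mapHomologicalComplex _).obj I.cocomplex).sc n) G).hom ≫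
            G.map (I.isoRightDerivedObj F n).inv) ≫
          G.map ((I.isoRightDerivedObj F n).hom ≫
            HomologicalComplex.homologyMap ((F.mapHomologicalComplex _).map a) n ≫
              (I'.isoRightDerivedObj F n).inv)
      refine (AcyclicRes.glue (s := G.mapIso (I.isoRightDerivedObj F n)) key).trans ?_
      exact congrArg (_ ≫ ·) ((congrArg (_ ≫ ·) (G.map_comp _ _).symm).trans (G.map_comp _ _).symm))

end PostComp

section Scheme

variable {X Y : Scheme.{u}}

/-- The underlying abelian sheaf, as a functor. -/
noncomputable abbrev toAbFunctor (X : Scheme.{u}) :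
    X.Modules ⥤ Sheaf (Opens.grothendieckTopology X) AddCommGrpCat.{u} :=
  SheafOfModules.toSheaf X.ringCatSheaf

theorem isFlasque_toAb_of_injective (M : X.Modules) (hM : Injective M) :
    TopCat.Sheaf.IsFlasque (X := X.toTopCat) (Coh.toAb M) :=
  isFlasque_of_surjective (X := X.toTopCat) (Coh.toAb M)
    fun g => @surjective_map_of_injective _ _ _ X.ringCatSheaf M hM _ _ g _

instance toAbFunctorPreservesFiniteLimits (X : Scheme.{u}) :
    PreservesFiniteLimits (toAbFunctor X) :=
  toSheafPreservesFiniteLimits X.ringCatSheaf

instance toAbFunctorPreservesFiniteColimits (X : Scheme.{u}) :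
    PreservesFiniteColimits (toAbFunctor X) :=
  toSheafPreservesFiniteColimits X.ringCatSheaf

instance toAbFunctorAdditive (X : Scheme.{u}) : (toAbFunctor X).Additive :=
  Functor.additive_of_preserves_binary_products _

instance pushAbPreservesFiniteLimits (f : X ⟶ Y) : PreservesFiniteLimits (Coh.pushAb f) :=
  pushPreservesFiniteLimits f.base

/-- `toAb` of the higher direct images of modules are the higher direct images of `toAb`,
naturally in the module. -/
noncomputable def rpushCompToAb (f : X ⟶ Y) [HasInjectiveResolutions X.Modules] (n : ℕ) :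
    Coh.Rpush f n ⋙ toAbFunctor Y ≅ toAbFunctor X ⋙ Coh.RpushAb f n := by
  let e₁ : Coh.Rpush f n ⋙ toAbFunctor Y ≅
      (Scheme.Modules.pushforward f ⋙ toAbFunctor Y).rightDerived n :=
    (rightDerivedCompIso (Scheme.Modules.pushforward f) (toAbFunctor Y) n).symm
  exact e₁ ≪≫ AcyclicRes.compareIso (toAbFunctor X) (Coh.pushAb f) (flasque_goodClass f.base)
    (fun M hM => isFlasque_toAb_of_injective M hM) n

end Scheme

end Groth.Agent.ModShf
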